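import Cfsg.Agent.H566.RC.TriFrame
import Cfsg.Agent.H208.SgAut
import Cfsg.Agent.H126.TriRigid
import Cfsg.Agent.H39.Tri3

/-!
# S3510, triality of `PΩ₈⁺(q)`, type (i): a long root element (helper679)

* `G2_dich` : a subgroup of `G₂(F)` normalised by `G₂(F)'` is trivial or contains `G₂(F)'`;
* `comm_le` : the same for the centraliser of `ρ`, and the long root elements `sg h` are commutators in it;
* `box_iC` : if `x₁` induces `ρ` and every point is fixed by `x₁` or by `σ c`, `1 ≠ c` fixed by `ρ`, then every point is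
  fixed by `x₁` or by a long root element `σ (sg h)`.
-/

set_option autoImplicit false
open Cfsg

namespace Cfsg.Agent.H679.RC.TriBox

open Module QuadraticMap MulAction Cfsg.Agent.LieClassical.OrthCore Cfsg.Agent.LieClassical.OrthTrans
  Cfsg.Agent.LieClassical.OrthSimple Cfsg.Agent.ClassicalGeometry.OrthAut1
  Cfsg.Agent.ClassicalGeometry.OrthSemi Cfsg.Agent.H198.Classes
  Cfsg.Agent.LieClassical.QuadForms Cfsg.Agent.H198.ClassesPlus
  Cfsg.Agent.ClassicalGeometry.TrialityOct Cfsg.Agent.ClassicalGeometry.Triality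
  Cfsg.Agent.ClassicalGeometry.TrialitySpaces Cfsg.Agent.H198.TriBase Cfsg.Agent.H198.TriAut
  Cfsg.Agent.H206.Balance Cfsg.Agent.H198.BalVar Cfsg.Agent.H198.TriDia Cfsg.Agent.H198.TriSpec
  Cfsg.Agent.H566.RC Cfsg.Agent.H106.RC

universe u

section Abs

open Subgroup

/-- a subgroup normalised by a group above `G'`, `G'` simple with trivial centraliser -/
theorem core_dich {G : Type*} [Group G] [Finite G] (hS : IsSimpleGroup (commutator G))
    (hZ : centralizer ((commutator G : Subgroup G) : Set G) = ⊥)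
    (H M : Subgroup G) (hH : commutator G ≤ H) (hn : ∀ c ∈ H, ∀ a ∈ M, c * a * c⁻¹ ∈ M) :
    M = ⊥ ∨ commutator G ≤ M := by
  have hN : (M.subgroupOf (commutator G)).Normal := by
    constructor
    intro a ha g
    rw [mem_subgroupOf] at ha ⊢
    exact hn g (hH g.2) a ha
  rcases hN.eq_bot_or_eq_top with hbot | h
  · left
    have hinf : ∀ g ∈ M, g ∈ commutator G → g = 1 := by
      intro g hg hg'
      have h1 : (⟨g, hg'⟩ : commutator G) ∈ M.subgroupOf (commutator G) := hg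
      rw [hbot, mem_bot] at h1
      exact congrArg Subtype.val h1
    rw [eq_bot_iff, ← hZ]
    intro m hm
    rw [mem_centralizer_iff]
    intro g hg
    have hn' : (commutator G).Normal := inferInstance
    have h1 : g * m * g⁻¹ * m⁻¹ = 1 := by
      apply hinf
      · exact M.mul_mem (hn g (hH hg) m hm) (M.inv_mem hm)
      · have h2 : g * m * g⁻¹ * m⁻¹ = g * (m * g⁻¹ * m⁻¹) := by group
        rw [h2]
        exact mul_mem hg (hn'.conj_mem _ (inv_mem hg) m)
    have h2 : g * m * g⁻¹ = m := by rw [← mul_inv_eq_one, h1]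
    calc g * m = g * m * g⁻¹ * g := by group
      _ = m * g := by rw [h2]
  · right
    exact subgroupOf_eq_top.1 h

/-- transport of the dichotomy -/
theorem transport_dich {A B : Type*} [Group A] [Group B] (H : Subgroup A) (f : ↥H →* B)
    (_hf : Function.Injective f) (X Y : Subgroup B) (hX : ∀ g, f g ∈ X) (hX' : ∀ p ∈ X, p ∈ f.range) (hY : Y ≤ X)
    (hn : ∀ c ∈ X, ∀ a ∈ Y, c * a * c⁻¹ ∈ Y)
    (core : ∀ M' : Subgroup A, (∀ c ∈ H, ∀ a ∈ M', c * a * c⁻¹ ∈ M') → M' = ⊥ ∨ commutator A ≤ M')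
    {c : B} (hc : c ∈ Y) (h1 : c ≠ 1) {a b d : B} (ha : a ∈ X) (hb : b ∈ X) (hd : a * b = d * (b * a)) : d ∈ Y := by
  have h2 := core ((Y.comap f).map H.subtype) (by
    rintro s hs _ ⟨a, ha, rfl⟩
    refine ⟨⟨s, hs⟩ * a * ⟨s, hs⟩⁻¹, ?_, rfl⟩
    change f (⟨s, hs⟩ * a * ⟨s, hs⟩⁻¹) ∈ Y
    rw [map_mul, map_mul, map_inv]
    exact hn _ (hX _) _ ha)
  rcases h2 with h2 | h2
  · exfalso
    rw [Subgroup.map_eq_bot_iff_of_injective _ H.subtype_injective] at h2
    obtain ⟨g, hg⟩ := hX' c (hY hc)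
    have h3 : g ∈ Y.comap f := by
      rw [Subgroup.mem_comap, hg]
      exact hc
    rw [h2, Subgroup.mem_bot] at h3
    apply h1
    rw [← hg, h3, map_one]
  · obtain ⟨g1, hg1⟩ := hX' a ha
    obtain ⟨g2, hg2⟩ := hX' b hb
    have h3 : (g1 * g2 * g1⁻¹ * g2⁻¹ : ↥H).1 ∈ (Y.comap f).map H.subtype :=
      h2 (Subgroup.commutator_mem_commutator (Subgroup.mem_top g1.1) (Subgroup.mem_top g2.1))
    obtain ⟨e, he, he'⟩ := h3
    have h4 : e = g1 * g2 * g1⁻¹ * g2⁻¹ := Subtype.ext he'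
    have h5 : f e ∈ Y := he
    rw [h4, map_mul, map_mul, map_mul, map_inv, map_inv, hg1, hg2, hd] at h5
    have h6 : d * (b * a) * a⁻¹ * b⁻¹ = d := by group
    rwa [h6] at h5

end Abs

section GTwo

open Subgroup Cfsg.Lie Cfsg.Agent.H753.GTwoCore

/-- A subgroup of `G₂(F)` normalised by a group above `G₂(F)'` is trivial or contains `G₂(F)'`. -/
theorem G2_dich {F : Type u} [Field F] [Finite F] (H M : Subgroup ↥(Cfsg.Lie.G2 F))
    (hH : commutator ↥(Cfsg.Lie.G2 F) ≤ H) (hn : ∀ c ∈ H, ∀ a ∈ M, c * a * c⁻¹ ∈ M) :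
    M = ⊥ ∨ commutator ↥(Cfsg.Lie.G2 F) ≤ M := by
  obtain ⟨e⟩ := Cfsg.Agent.H638.G2Iso.equiv (F := F)
  have hcard := Cfsg.Agent.H638.G2Iso.card_G2 (F := F)
  have hpos : 0 < Nat.card (Cfsg.Lie.G2 F) := by
    rw [hcard]
    have h1 : 1 < Nat.card F := Finite.one_lt_card
    have h2 : 1 < Nat.card F ^ 2 := Nat.one_lt_pow (by norm_num) h1
    have h3 : 1 < Nat.card F ^ 6 := Nat.one_lt_pow (by norm_num) h1
    have h4 : 0 < Nat.card F ^ 2 - 1 := by omega
    have h5 : 0 < Nat.card F ^ 6 - 1 := by omega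
    positivity
  have hfin : Finite (Cfsg.Lie.G2 F) := Nat.finite_of_card_ne_zero hpos.ne'
  rcases two_or (F := F) with h2 | hF
  · -- `|F| = 2`
    have iF : Fintype F := Fintype.ofFinite F
    have h2' : Fintype.card F = 2 := by rw [← Nat.card_eq_fintype_card, h2]
    have iK : Fintype (GaloisField 3 2) := Fintype.ofFinite _
    have hK : Fintype.card (GaloisField 3 2) = 9 := by
      rw [← Nat.card_eq_fintype_card, GaloisField.card 3 2 (by norm_num)]
      rfl
    obtain ⟨e1⟩ := Cfsg.Agent.S1057.result h2' hK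
    obtain ⟨e2⟩ := Cfsg.Agent.S1057.commutator_equiv e
    have e3 := e2.trans e1
    have hS' : IsSimpleGroup (Cfsg.PSU 3 (GaloisField 3 2) 3) :=
      Cfsg.Agent.S0283.result (q := 3) (by rw [hK]; rfl) 3 le_rfl (by norm_num)
    have hS : IsSimpleGroup (commutator (Cfsg.Lie.G2 F)) := e3.isSimpleGroup
    have hcard' : Nat.card (commutator (Cfsg.Lie.G2 F)) = 6048 := by
      rw [Nat.card_congr e3.toEquiv]
      have h5 := Cfsg.Agent.S0280.result (F := GaloisField 3 2) (q := 3) (by rw [hK]; norm_num) 3 (by norm_num)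
      simp only [Finset.prod_range_succ, Finset.prod_range_zero] at h5
      norm_num [Nat.even_iff] at h5
      omega
    have hnc : ¬ IsMulCommutative (commutator (Cfsg.Lie.G2 F)) := by
      intro h5
      let _ : CommGroup (commutator (Cfsg.Lie.G2 F)) :=
        { (inferInstance : Group (commutator (Cfsg.Lie.G2 F))) with mul_comm := h5.is_comm.comm }
      have h6 := IsSimpleGroup.prime_card (α := commutator (Cfsg.Lie.G2 F))
      rw [hcard'] at h6
      revert h6
      norm_num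
    refine core_dich hS (centralizer_eq_bot hS hnc center_eq_bot ?_) H M hH hn
    rw [hcard', hcard, h2]
    norm_num
  · -- `|F| > 2`
    obtain ⟨hS0, hnc⟩ := Cfsg.Agent.S1055.result hF
    have hS : IsSimpleGroup (Cfsg.Lie.G2 F) := e.isSimpleGroup
    have hnc' : ¬ IsMulCommutative (Cfsg.Lie.G2 F) := by
      intro h
      apply hnc
      constructor
      constructor
      intro a b
      have h1 := h.is_comm.comm (e.symm a) (e.symm b)
      apply e.symm.injective
      rw [map_mul, map_mul, h1]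
    have htop := not_comm_commutator hS hnc'
    have hS1 : IsSimpleGroup (commutator (Cfsg.Lie.G2 F)) := by
      rw [htop]
      exact Subgroup.topEquiv.isSimpleGroup
    refine core_dich hS1 ?_ H M hH hn
    rw [htop, coe_top, centralizer_univ, center_eq_bot]

end GTwo

variable {F : Type u} [Field F]

open H126.TriRigid (eU eW sp_single)

/-- the special pair `e₁`, `-f₃` -/
theorem spC : Sp ((1 : F) • eU F 1) ((-1 : F) • eW F 3) :=
  (sp_single (by decide) (by decide) (by decide)).smul 1 (-1)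

theorem sp12 : Sp (eU F 1) (eW F 2) := sp_single (by decide) (by decide) (by decide)

theorem sp23 : Sp (eU F 2) (eW F 3) := sp_single (by decide) (by decide) (by decide)

/-- the long root element is a commutator -/
theorem sg_comm : sg (sp12 (F := F)) * sg (sp23 (F := F)) =
    sg (spC (F := F)) * (sg (sp23 (F := F)) * sg (sp12 (F := F))) := by
  apply Subtype.ext
  apply LinearEquiv.ext
  intro z
  change (sg (sp12 (F := F)) : V8 F ≃ₗ[F] V8 F) ((sg (sp23 (F := F)) : V8 F ≃ₗ[F] V8 F) z) =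
    (sg (spC (F := F)) : V8 F ≃ₗ[F] V8 F) ((sg (sp23 (F := F)) : V8 F ≃ₗ[F] V8 F)
      ((sg (sp12 (F := F)) : V8 F ≃ₗ[F] V8 F) z))
  simp only [sg_apply, polar8]
  apply ext8 <;> simp <;> ring

theorem lin_indep : LinearIndependent F ![(1 : F) • eU F 1, (-1 : F) • eW F 3] := by
  rw [LinearIndependent.pair_iff]
  intro s t h
  have h1 := congrFun h (.inl 1)
  have h2 := congrFun h (.inr 3)
  simp at h1 h2
  exact ⟨h1, h2⟩

/-- **a nontrivial subgroup of the centraliser of `ρ`, normal in it, contains the long root element** -/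
theorem sg_mem [Finite F] (hG : Good (plusForm 4 F)) {Y : Subgroup (P8 F)} (hY : Y ≤ Fx (rho hG))
    (hn : ∀ t ∈ Fx (rho hG), ∀ a ∈ Y, t * a * t⁻¹ ∈ Y) {c : P8 F} (hc : c ∈ Y) (h1 : c ≠ 1) :
    ((sg (spC (F := F)) : ↥(E (plusForm 4 F))) : P8 F) ∈ Y := by
  refine transport_dich (H513.CoreFG.HH (RingEquiv.refl F)) (H513.CoreFG.pP (RingEquiv.refl F))
    (H513.CoreFG.pP_inj hG _) (Fx (rho hG)) Y (fun g => (H513.CoreFG.pP_mem hG _ g).1) ?_ hY hn
    (fun M' h2 => G2_dich _ M' (H513.CoreFG.comm_le_HH hG _) h2) hc h1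
    (H208.SgAut.rho_sg hG (sp12 (F := F))) (H208.SgAut.rho_sg hG (sp23 (F := F))) ?_
  · intro p hp
    refine H513.CoreFG.le_range hG _ hp ?_
    rw [H39.Tri3.fG_refl, map_one]
    rfl
  · exact congrArg (fun g : ↥(E (plusForm 4 F)) => (g : P8 F)) (sg_comm (F := F))

/-- the elements of the centraliser of `ρ` fixing all the points moved by `x₁` -/
def YY {G Ω : Type*} [Group G] [MulAction G Ω] {V : Type*} [AddCommGroup V] [Module F V] {Q : QuadraticForm F V}
    (σ : P Q →* G) (Ω' : Set Ω) (C : Subgroup (P Q)) : Subgroup (P Q) where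
  carrier := {c | c ∈ C ∧ ∀ ω ∈ Ω', σ c • ω = ω}
  one_mem' := ⟨C.one_mem, fun ω _ => by rw [map_one, one_smul]⟩
  mul_mem' {a b} ha hb := ⟨C.mul_mem ha.1 hb.1, fun ω hω => by rw [map_mul, mul_smul, hb.2 ω hω, ha.2 ω hω]⟩
  inv_mem' {a} ha := ⟨C.inv_mem ha.1, fun ω hω => by rw [map_inv, inv_smul_eq_iff, ha.2 ω hω]⟩

/-- **Box iC** of the triality of type (i). -/
theorem box_iC [Finite F] {G Ω : Type*} [Group G] [MulAction G Ω] (hG : Good (plusForm 4 F))
    {σ : P8 F →* G} {x1 : G} (hx : La σ x1 (rho hG)) {c : P8 F} (h1 : c ≠ 1) (hc : rho hG c = c)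
    (hcov : ∀ ω : Ω, x1 • ω = ω ∨ σ c • ω = ω) :
    ∃ (u w : V8 F) (h : Sp u w), LinearIndependent F ![u, w] ∧
      ∀ ω : Ω, x1 • ω = ω ∨ σ ((sg h : ↥(E (plusForm 4 F))) : P8 F) • ω = ω := by
  refine ⟨_, _, spC, lin_indep, ?_⟩
  set Y := YY σ {ω : Ω | x1 • ω ≠ ω} (Fx (rho hG)) with hY
  have hcY : c ∈ Y := ⟨hc, fun ω hω => (hcov ω).resolve_left hω⟩
  have h2 := sg_mem hG (Y := Y) (fun a ha => ha.1) (by
    intro t ht a ha
    refine ⟨mul_mem (mul_mem ht ha.1) (inv_mem ht), fun ω hω => ?_⟩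
    have h3 : x1 * σ t * x1⁻¹ = σ t := by
      rw [hx t]
      congr 1
    have h4 : x1 * (σ t)⁻¹ = (σ t)⁻¹ * x1 := by
      rw [mul_inv_eq_iff_eq_mul] at h3
      rw [mul_inv_eq_iff_eq_mul, mul_assoc, h3, inv_mul_cancel_left]
    have h5 : (σ t)⁻¹ • ω ∈ {ω : Ω | x1 • ω ≠ ω} := by
      intro h6
      apply hω
      have h7 : (σ t)⁻¹ • (x1 • ω) = (σ t)⁻¹ • ω := by rw [← mul_smul, ← h4, mul_smul, h6]
      exact smul_left_cancel _ h7
    rw [map_mul, map_mul, map_inv, mul_smul, mul_smul, ha.2 _ h5, smul_inv_smul]) hcY h1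
  intro ω
  by_cases h3 : x1 • ω = ω
  · exact Or.inl h3
  · exact Or.inr (h2.2 ω h3)

end Cfsg.Agent.H679.RC.TriBox
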